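import Groth.Agent.HopfFF.Image
import Groth.Agent.Comodule.Stab
import Groth.Agent.Comodule.Sub
import Groth.Agent.Comodule.SubStruct
import Groth.Agent.HopfGr.Cartier

/-!
# Finitely generated Hopf subalgebras and their Hopf structure
-/

set_option autoImplicit false
set_option backward.isDefEq.respectTransparency false
universe u v

open TensorProduct WithConv

noncomputable section

namespace Groth.Agent.HopfPts

variable {k : Type u} [Field k] {A : Type v} [CommRing A] [HopfAlgebra k A]

theorem isHopf_adjoin_mat {ι : Type*} [Fintype ι] [DecidableEq ι] (a : Matrix ι ι A)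
    (h1 : ∀ i j, CoalgebraStruct.comul (R := k) (a i j) = ∑ l, a i l ⊗ₜ[k] a l j)
    (h2 : ∀ i j, CoalgebraStruct.counit (R := k) (a i j) = if i = j then 1 else 0) :
    HopfFF.IsHopfSub (k := k) (A := A) (Algebra.adjoin k
      (Set.range (fun q : ι × ι => a q.1 q.2) ∪
        Set.range fun q : ι × ι => HopfAlgebra.antipode k (a q.1 q.2))) := by
  let il : A →ₐ[k] A ⊗[k] A := Algebra.TensorProduct.includeLeft
  let ir : A →ₐ[k] A ⊗[k] A := Algebra.TensorProduct.includeRight
  let S : A →ₐ[k] A := HopfAlgebra.antipodeAlgHom k A
  let Δ : A →ₐ[k] A ⊗[k] A := Bialgebra.comulAlgHom k A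
  have hS : ∀ x, S x = HopfAlgebra.antipode k x := fun x => rfl
  let b := S.mapMatrix a
  have hba : b * a = 1 := by
    ext i j
    have h := HopfAlgebra.mul_antipode_rTensor_comul_apply (R := k) (a i j)
    rw [h1, h2, map_sum, map_sum] at h
    simp only [LinearMap.rTensor_tmul, LinearMap.mul'_apply] at h
    rw [Matrix.mul_apply, Matrix.one_apply]
    simp only [b, AlgHom.mapMatrix_apply, Matrix.map_apply, hS, h]
    split_ifs <;> simp
  have hab : a * b = 1 := mul_eq_one_comm.1 hba
  have hΔa : Δ.mapMatrix a = il.mapMatrix a * ir.mapMatrix a := by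
    ext i j
    rw [Matrix.mul_apply]
    simp only [AlgHom.mapMatrix_apply, Matrix.map_apply, Δ, Bialgebra.comulAlgHom_apply, h1, il, ir,
      Algebra.TensorProduct.includeLeft_apply, Algebra.TensorProduct.includeRight_apply,
      Algebra.TensorProduct.tmul_mul_tmul, _root_.mul_one, _root_.one_mul]
  have hΔb : Δ.mapMatrix b = ir.mapMatrix b * il.mapMatrix b := by
    have e1 : Δ.mapMatrix b * Δ.mapMatrix a = 1 := by rw [← map_mul, hba, map_one]
    have e2 : Δ.mapMatrix a * (ir.mapMatrix b * il.mapMatrix b) = 1 := by
      rw [hΔa, Matrix.mul_assoc, ← Matrix.mul_assoc (ir.mapMatrix a), ← map_mul ir.mapMatrix, hab, map_one,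
        Matrix.one_mul, ← map_mul, hab, map_one]
    exact left_inv_eq_right_inv e1 e2
  have hSb : S.mapMatrix b = a := by
    have e1 : S.mapMatrix b * S.mapMatrix a = 1 := by rw [← map_mul, hba, map_one]
    exact left_inv_eq_right_inv e1 hba
  set B := Algebra.adjoin k
      (Set.range (fun q : ι × ι => a q.1 q.2) ∪
        Set.range fun q : ι × ι => HopfAlgebra.antipode k (a q.1 q.2))
  have ha : ∀ i j, a i j ∈ B := fun i j => Algebra.subset_adjoin (Or.inl ⟨(i, j), rfl⟩)
  have hb : ∀ i j, b i j ∈ B := fun i j => Algebra.subset_adjoin (Or.inr ⟨(i, j), rfl⟩)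
  let m := Algebra.TensorProduct.map B.val B.val
  have hle : B ≤ m.range.comap Δ ⊓ B.comap S := by
    refine Algebra.adjoin_le ?_
    rintro _ (⟨⟨i, j⟩, rfl⟩ | ⟨⟨i, j⟩, rfl⟩)
    · refine ⟨?_, hb i j⟩
      show Δ (a i j) ∈ m.range
      rw [show Δ (a i j) = ∑ l, a i l ⊗ₜ[k] a l j from h1 i j]
      exact sum_mem fun l _ => ⟨⟨a i l, ha i l⟩ ⊗ₜ ⟨a l j, ha l j⟩, rfl⟩
    · refine ⟨?_, ?_⟩
      · show Δ (b i j) ∈ m.range
        rw [show Δ (b i j) = (ir.mapMatrix b * il.mapMatrix b) i j from congrFun (congrFun hΔb i) j, Matrix.mul_apply]
        refine sum_mem fun l _ => ⟨⟨b l j, hb l j⟩ ⊗ₜ ⟨b i l, hb i l⟩, ?_⟩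
        simp [m, il, ir]
      · show S (b i j) ∈ B
        rw [show S (b i j) = a i j from congrFun (congrFun hSb i) j]
        exact ha i j
  exact ⟨fun x hx => (hle hx).1, fun x hx => (hle hx).2⟩

/-- Every element lies in a finitely generated Hopf subalgebra. -/
theorem exists_fg (x : A) : ∃ B : Subalgebra k A, x ∈ B ∧ B.FG ∧ HopfFF.IsHopfSub (k := k) (A := A) B := by
  classical
  let W : Submodule k A := (Submodule.span (WithConv (A →ₗ[k] k)) ({x} : Set A)).restrictScalars k
  have hW : HopfRep.IsSubcomod (k := k) (A := A) W := Comodule.isSubcomod_restrictScalars _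
  haveI : Module.Finite k W := Comodule.finite_span_singleton x
  letI := Comodule.subComod W hW
  let b := Module.finBasis k W
  let a : Matrix (Fin (Module.finrank k W)) (Fin (Module.finrank k W)) A := Comodule.coMat b
  refine ⟨_, ?_, Subalgebra.fg_def.2 ⟨_, (Set.finite_range _).union (Set.finite_range _), rfl⟩,
    isHopf_adjoin_mat a (fun i j => Comodule.comul_coMat b i j) (fun i j => Comodule.counit_coMat b i j)⟩
  have hW' : W ≤ Subalgebra.toSubmodule (Algebra.adjoin k
      (Set.range (fun q : Fin (Module.finrank k W) × Fin (Module.finrank k W) => a q.1 q.2) ∪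
        Set.range fun q : Fin (Module.finrank k W) × Fin (Module.finrank k W) => HopfAlgebra.antipode k (a q.1 q.2))) := by
    have hspan : W = Submodule.map W.subtype (Submodule.span k (Set.range b)) := by
      rw [b.span_eq, Submodule.map_top, Submodule.range_subtype]
    refine hspan.le.trans ?_
    rw [Submodule.map_span, Submodule.span_le]
    rintro _ ⟨_, ⟨j, rfl⟩, rfl⟩
    have h1 := Comodule.rTensor_subCoact W hW (b j)
    rw [show Comodule.subCoact W hW (b j) = HopfRep.Comod.coact (k := k) (A := A) (b j) from rfl, Comodule.coact_basis b j, map_sum] at h1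
    have h2 := congrArg (TensorProduct.lid k A ∘ (Coalgebra.counit (R := k) (A := A)).rTensor A) h1
    simp only [Function.comp_apply, map_sum, LinearMap.rTensor_tmul, TensorProduct.lid_tmul, Submodule.subtype_apply] at h2
    rw [Comodule.coact_regular, Coalgebra.rTensor_counit_comul, TensorProduct.lid_tmul, one_smul] at h2
    show ((b j : W) : A) ∈ _
    rw [← h2]
    exact Submodule.sum_mem _ fun l _ => Submodule.smul_mem _ _ (Algebra.subset_adjoin (Or.inl ⟨(l, j), rfl⟩))
  exact hW' (Submodule.subset_span (R := WithConv (A →ₗ[k] k)) rfl)

section Structure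

variable {B : Subalgebra k A} (hB : HopfFF.IsHopfSub (k := k) (A := A) B)

theorem map_val_injective (B : Subalgebra k A) : Function.Injective (Algebra.TensorProduct.map B.val B.val) := by
  have : (Algebra.TensorProduct.map B.val B.val).toLinearMap =
      (B.val.toLinearMap.rTensor A) ∘ₗ (B.val.toLinearMap.lTensor B) := by
    ext a b; simp
  show Function.Injective (Algebra.TensorProduct.map B.val B.val).toLinearMap
  rw [this, LinearMap.coe_comp]
  exact (Module.Flat.rTensor_preserves_injective_linearMap _ Subtype.val_injective).comp
    (Module.Flat.lTensor_preserves_injective_linearMap _ Subtype.val_injective)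

/-- The comultiplication of a Hopf subalgebra. -/
def subComul : B →ₐ[k] B ⊗[k] B :=
  (AlgEquiv.ofInjective _ (map_val_injective B)).symm.toAlgHom.comp
    (((Bialgebra.comulAlgHom k A).comp B.val).codRestrict (Algebra.TensorProduct.map B.val B.val).range
      fun b => by
        obtain ⟨z, hz⟩ := hB.1 b b.2
        exact ⟨z, hz⟩)

theorem map_subComul (b : B) : Algebra.TensorProduct.map B.val B.val (subComul hB b) = Coalgebra.comul (R := k) (b : A) :=
  congrArg Subtype.val ((AlgEquiv.ofInjective _ (map_val_injective B)).apply_symm_apply
    (((Bialgebra.comulAlgHom k A).comp B.val).codRestrict (Algebra.TensorProduct.map B.val B.val).range _ b))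

/-- The bialgebra structure of a Hopf subalgebra. -/
@[reducible] def subBialgebra : Bialgebra k B :=
  Bialgebra.ofAlgHom (subComul hB) ((Bialgebra.counitAlgHom k A).comp B.val)
    (AlgHom.ext fun b => by
      have hinj : Function.Injective (Algebra.TensorProduct.map B.val (Algebra.TensorProduct.map B.val B.val)) := by
        show Function.Injective (Algebra.TensorProduct.map B.val (Algebra.TensorProduct.map B.val B.val)).toLinearMap
        rw [show (Algebra.TensorProduct.map B.val (Algebra.TensorProduct.map B.val B.val)).toLinearMap =
          (B.val.toLinearMap.rTensor (A ⊗[k] A)) ∘ₗ ((Algebra.TensorProduct.map B.val B.val).toLinearMap.lTensor B) from by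
            ext a b c; simp, LinearMap.coe_comp]
        exact (Module.Flat.rTensor_preserves_injective_linearMap _ Subtype.val_injective).comp
          (Module.Flat.lTensor_preserves_injective_linearMap _ (map_val_injective B))
      apply hinj
      have e1 : ∀ z : B ⊗[k] B, Algebra.TensorProduct.map B.val (Algebra.TensorProduct.map B.val B.val)
          (Algebra.TensorProduct.map (AlgHom.id k B) (subComul hB) z) =
          (Coalgebra.comul (R := k) (A := A)).lTensor A (Algebra.TensorProduct.map B.val B.val z) := fun z => by
        induction z using TensorProduct.induction_on with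
        | zero => simp
        | add x y hx hy => simp only [map_add, hx, hy]
        | tmul x y => simp [map_subComul]
      have e2 : ∀ z : (B ⊗[k] B) ⊗[k] B, Algebra.TensorProduct.map B.val (Algebra.TensorProduct.map B.val B.val)
          (Algebra.TensorProduct.assoc k k k B B B z) = TensorProduct.assoc k A A A
            (Algebra.TensorProduct.map (Algebra.TensorProduct.map B.val B.val) B.val z) := fun z => by
        induction z using TensorProduct.induction_on with
        | zero => simp
        | add x y hx hy => simp only [map_add, hx, hy]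
        | tmul x y =>
          induction x using TensorProduct.induction_on with
          | zero => simp
          | add x x' hx hx' => simp only [TensorProduct.add_tmul, map_add, hx, hx']
          | tmul x x' => simp
      have e3 : ∀ z : B ⊗[k] B, Algebra.TensorProduct.map (Algebra.TensorProduct.map B.val B.val) B.val
          (Algebra.TensorProduct.map (subComul hB) (AlgHom.id k B) z) =
          (Coalgebra.comul (R := k) (A := A)).rTensor A (Algebra.TensorProduct.map B.val B.val z) := fun z => by
        induction z using TensorProduct.induction_on with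
        | zero => simp
        | add x y hx hy => simp only [map_add, hx, hy]
        | tmul x y => simp [map_subComul]
      simp only [AlgHom.comp_apply, AlgEquiv.coe_toAlgHom, AlgEquiv.coe_algHom]
      rw [e1, e2, e3, map_subComul, Coalgebra.coassoc_apply])
    (AlgHom.ext fun b => by
      have hinj : Function.Injective (B.val.toLinearMap.lTensor k) :=
        Module.Flat.lTensor_preserves_injective_linearMap _ Subtype.val_injective
      apply hinj
      have e : ∀ z : B ⊗[k] B, B.val.toLinearMap.lTensor k
          (Algebra.TensorProduct.map ((Bialgebra.counitAlgHom k A).comp B.val) (AlgHom.id k B) z) =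
          (Coalgebra.counit (R := k) (A := A)).rTensor A (Algebra.TensorProduct.map B.val B.val z) := fun z => by
        induction z using TensorProduct.induction_on with
        | zero => simp
        | add x y hx hy => simp only [map_add, hx, hy]
        | tmul x y => simp
      rw [AlgHom.comp_apply, e, map_subComul, Coalgebra.rTensor_counit_comul]
      simp)
    (AlgHom.ext fun b => by
      have hinj : Function.Injective (B.val.toLinearMap.rTensor k) :=
        Module.Flat.rTensor_preserves_injective_linearMap _ Subtype.val_injective
      apply hinj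
      have e : ∀ z : B ⊗[k] B, B.val.toLinearMap.rTensor k
          (Algebra.TensorProduct.map (AlgHom.id k B) ((Bialgebra.counitAlgHom k A).comp B.val) z) =
          (Coalgebra.counit (R := k) (A := A)).lTensor A (Algebra.TensorProduct.map B.val B.val z) := fun z => by
        induction z using TensorProduct.induction_on with
        | zero => simp
        | add x y hx hy => simp only [map_add, hx, hy]
        | tmul x y => simp
      rw [AlgHom.comp_apply, e, map_subComul, Coalgebra.lTensor_counit_comul]
      simp)

/-- The Hopf algebra structure of a Hopf subalgebra. -/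
@[reducible] def subHopfAlgebra : HopfAlgebra k B :=
  letI := subBialgebra hB
  HopfAlgebra.ofAlgHom (((HopfAlgebra.antipodeAlgHom k A).comp B.val).codRestrict B fun b => hB.2 b b.2)
    (AlgHom.ext fun b => Subtype.ext (by
      have e : ∀ z : B ⊗[k] B, ((Algebra.TensorProduct.lift
          (((HopfAlgebra.antipodeAlgHom k A).comp B.val).codRestrict B fun b => hB.2 b b.2)
          (AlgHom.id k B) (fun _ _ => Commute.all _ _) z : B) : A) =
          LinearMap.mul' k A ((HopfAlgebra.antipode k (A := A)).rTensor A (Algebra.TensorProduct.map B.val B.val z)) := fun z => by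
        induction z using TensorProduct.induction_on with
        | zero => simp
        | add x y hx hy => simp only [map_add, Subalgebra.coe_add, hx, hy]
        | tmul x y => simp
      refine (e (subComul hB b)).trans ?_
      rw [map_subComul, HopfAlgebra.mul_antipode_rTensor_comul_apply]
      rfl))
    (AlgHom.ext fun b => Subtype.ext (by
      have e : ∀ z : B ⊗[k] B, ((Algebra.TensorProduct.lift (AlgHom.id k B)
          (((HopfAlgebra.antipodeAlgHom k A).comp B.val).codRestrict B fun b => hB.2 b b.2)
          (fun _ _ => Commute.all _ _) z : B) : A) =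
          LinearMap.mul' k A ((HopfAlgebra.antipode k (A := A)).lTensor A (Algebra.TensorProduct.map B.val B.val z)) := fun z => by
        induction z using TensorProduct.induction_on with
        | zero => simp
        | add x y hx hy => simp only [map_add, Subalgebra.coe_add, hx, hy]
        | tmul x y => simp
      refine (e (subComul hB b)).trans ?_
      rw [map_subComul, HopfAlgebra.mul_antipode_lTensor_comul_apply]
      rfl))

end Structure

/-- Cartier: commutative Hopf algebras in characteristic zero are reduced. -/
theorem isReduced [CharZero k] : IsReduced A := by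
  refine ⟨fun x hx => ?_⟩
  obtain ⟨B, hxB, hBfg, hB⟩ := exists_fg (k := k) x
  letI := subHopfAlgebra hB
  haveI : Algebra.FiniteType k B := (Subalgebra.fg_iff_finiteType B).1 hBfg
  haveI := HopfGr.isReduced_charZero (k := k) (A := B)
  obtain ⟨n, hn⟩ := hx
  have h1 : IsNilpotent (⟨x, hxB⟩ : B) := ⟨n, Subtype.ext (by simpa using hn)⟩
  exact congrArg Subtype.val (IsReduced.eq_zero (⟨x, hxB⟩ : B) h1)

end Groth.Agent.HopfPts
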