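import Groth.Agent.HopfFF.Image
import Groth.Agent.HopfFF.Image
import Groth.Agent.HopfPts.Sub

/-!
# Points of commutative Hopf algebras over algebraically closed fields
-/

set_option autoImplicit false
universe u v

open TensorProduct

noncomputable section

namespace Groth.Agent.HopfPts

variable {k : Type u} [Field k] [IsAlgClosed k]

/-- A nonzero finitely generated algebra over an algebraically closed field has a rational point. -/
theorem exists_point_of_finiteType (C : Type v) [CommRing C] [Nontrivial C] [Algebra k C] [Algebra.FiniteType k C] :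
    Nonempty (C →ₐ[k] k) := by
  obtain ⟨m, hm⟩ := Ideal.exists_maximal C
  letI : Field (C ⧸ m) := Ideal.Quotient.field m
  haveI : Algebra.FiniteType k (C ⧸ m) :=
    Algebra.FiniteType.of_surjective (Ideal.Quotient.mkₐ k m) Ideal.Quotient.mk_surjective
  haveI : Module.Finite k (C ⧸ m) := finite_of_finite_type_of_isJacobsonRing k (C ⧸ m)
  haveI : Algebra.IsAlgebraic k (C ⧸ m) := Algebra.IsAlgebraic.of_finite k (C ⧸ m)
  exact ⟨(IsAlgClosed.lift (R := k) (S := C ⧸ m) (M := k)).comp (Ideal.Quotient.mkₐ k m)⟩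

variable {A : Type v} [CommRing A] [HopfAlgebra k A]

omit [IsAlgClosed k] in
theorem isHopf_sup {B B' : Subalgebra k A} (hB : HopfFF.IsHopfSub (k := k) (A := A) B) (hB' : HopfFF.IsHopfSub (k := k) (A := A) B') :
    HopfFF.IsHopfSub (k := k) (A := A) (B ⊔ B') := by
  let m := Algebra.TensorProduct.map (B ⊔ B').val (B ⊔ B').val
  let Δ := Bialgebra.comulAlgHom k A
  let S := HopfAlgebra.antipodeAlgHom k A
  have key : ∀ C : Subalgebra k A, C ≤ B ⊔ B' → HopfFF.IsHopfSub (k := k) (A := A) C →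
      C ≤ m.range.comap Δ ⊓ (B ⊔ B').comap S := fun C hC h x hx => by
    refine ⟨?_, hC (h.2 x hx)⟩
    obtain ⟨z, hz⟩ := h.1 x hx
    refine ⟨Algebra.TensorProduct.map (Subalgebra.inclusion hC) (Subalgebra.inclusion hC) z, ?_⟩
    show _ = CoalgebraStruct.comul (R := k) x
    rw [← hz]
    clear hz
    induction z using TensorProduct.induction_on with
    | zero => simp
    | tmul a b => rfl
    | add a b ha hb => simp only [map_add, ha, hb]
  have hle := sup_le (key B le_sup_left hB) (key B' le_sup_right hB')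
  exact ⟨fun x hx => (hle hx).1, fun x hx => (hle hx).2⟩

omit [IsAlgClosed k] in
theorem isHopf_iSup {ι : Type*} [Nonempty ι] (K : ι → Subalgebra k A) (dir : Directed (· ≤ ·) K)
    (h : ∀ i, HopfFF.IsHopfSub (k := k) (A := A) (K i)) : HopfFF.IsHopfSub (k := k) (A := A) (iSup K) := by
  have hmem : ∀ x, x ∈ iSup K ↔ ∃ i, x ∈ K i := fun x => by
    rw [← SetLike.mem_coe, Subalgebra.coe_iSup_of_directed dir, Set.mem_iUnion]
    rfl
  refine ⟨fun x hx => ?_, fun x hx => ?_⟩
  · obtain ⟨i, hi⟩ := (hmem x).1 hx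
    obtain ⟨z, hz⟩ := (h i).1 x hi
    refine ⟨TensorProduct.map (Subalgebra.inclusion (le_iSup K i)).toLinearMap
      (Subalgebra.inclusion (le_iSup K i)).toLinearMap z, ?_⟩
    rw [← hz]
    clear hz
    induction z using TensorProduct.induction_on with
    | zero => simp
    | tmul a b => rfl
    | add a b ha hb => simp only [map_add, ha, hb]
  · obtain ⟨i, hi⟩ := (hmem x).1 hx
    exact (hmem _).2 ⟨i, (h i).2 x hi⟩

/-- One step: a point of a Hopf subalgebra extends to any larger one generated by finitely many more elements. -/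
theorem exists_extension (B H : Subalgebra k A) (hB : HopfFF.IsHopfSub (k := k) (A := A) B) (hH : H.FG)
    (χ : B →ₐ[k] k) : ∃ ψ : (B ⊔ H : Subalgebra k A) →ₐ[k] k, ∀ b : B, ψ ⟨b, le_sup_left (a := B) b.2⟩ = χ b := by
  haveI : Module.FaithfullyFlat B A := HopfFF.faithfullyFlat_of_hopfSub hB
  let I : Ideal A := (RingHom.ker χ).map (algebraMap B A)
  haveI : Nontrivial (A ⧸ I) := Ideal.Quotient.nontrivial_iff.2 fun htop => by
    have h1 := Ideal.comap_map_eq_self_of_faithfullyFlat (B := A) (RingHom.ker χ)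
    rw [show (RingHom.ker χ).map (algebraMap B A) = I from rfl, htop, Ideal.comap_top] at h1
    exact RingHom.ker_ne_top χ h1.symm
  let q : A →ₐ[k] A ⧸ I := Ideal.Quotient.mkₐ k I
  let C : Subalgebra k (A ⧸ I) := H.map q
  haveI : Algebra.FiniteType k C := (Subalgebra.fg_iff_finiteType C).1 (hH.map q)
  haveI : Nontrivial C := ⟨⟨0, 1, fun h => zero_ne_one (congrArg Subtype.val h)⟩⟩
  obtain ⟨p⟩ := exists_point_of_finiteType (k := k) C
  have hq : ∀ b : B, q b = algebraMap k (A ⧸ I) (χ b) := fun b => by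
    rw [← sub_eq_zero, ← q.commutes, ← map_sub]
    refine Ideal.Quotient.eq_zero_iff_mem.2 ?_
    have h1 : b - algebraMap k B (χ b) ∈ RingHom.ker χ := by
      rw [RingHom.mem_ker, map_sub, AlgHom.commutes]
      exact sub_self _
    exact Ideal.mem_map_of_mem (algebraMap B A) h1
  have hle : (B ⊔ H : Subalgebra k A) ≤ C.comap q :=
    sup_le (fun b hb => by
      show q b ∈ C
      rw [hq ⟨b, hb⟩]
      exact C.algebraMap_mem _) (fun x hx => ⟨x, hx, rfl⟩)
  refine ⟨p.comp ((q.comp (B ⊔ H : Subalgebra k A).val).codRestrict C fun x => hle x.2), fun b => ?_⟩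
  rw [AlgHom.comp_apply]
  have h2 : (q.comp (B ⊔ H : Subalgebra k A).val).codRestrict C (fun x => hle x.2) ⟨b, le_sup_left (a := B) b.2⟩ =
      algebraMap k C (χ b) := Subtype.ext (hq b)
  rw [h2, AlgHom.commutes]
  rfl

/-- Points of Hopf subalgebras extend to the whole Hopf algebra. -/
theorem exists_point_extend (B0 : Subalgebra k A) (hB0 : HopfFF.IsHopfSub (k := k) (A := A) B0) (χ0 : B0 →ₐ[k] k) :
    ∃ χ : A →ₐ[k] k, ∀ b : B0, χ b = χ0 b := by
  classical
  let E := Σ' (B : {B : Subalgebra k A // HopfFF.IsHopfSub (k := k) (A := A) B ∧ B0 ≤ B}),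
    {χ : B.1 →ₐ[k] k // ∀ b : B0, χ (Subalgebra.inclusion B.2.2 b) = χ0 b}
  let le : E → E → Prop := fun e e' => ∃ h : e.1.1 ≤ e'.1.1, ∀ b, e'.2.1 (Subalgebra.inclusion h b) = e.2.1 b
  letI : Preorder E :=
    { le := le
      le_refl := fun e => ⟨le_rfl, fun b => rfl⟩
      le_trans := fun a b c ⟨h, hb⟩ ⟨h', hc⟩ => ⟨h.trans h', fun x => by rw [← hb x, ← hc _]; rfl⟩ }
  haveI hne : Nonempty E := ⟨⟨⟨B0, hB0, le_rfl⟩, ⟨χ0, fun b => rfl⟩⟩⟩
  obtain ⟨e, he⟩ := zorn_le_nonempty (α := E) fun c hc hcne => by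
    haveI : Nonempty ↥c := hcne.to_subtype
    let K : ↥c → Subalgebra k A := fun e => e.1.1.1
    have dir : Directed (· ≤ ·) K := fun a b => by
      rcases hc.total a.2 b.2 with h | h
      · exact ⟨b, h.1, le_rfl⟩
      · exact ⟨a, le_rfl, h.1⟩
    have compat : ∀ (i j : ↥c) (h : K i ≤ K j), i.1.2.1 = (j.1.2.1).comp (Subalgebra.inclusion h) := fun i j h => by
      refine AlgHom.ext fun b => ?_
      rcases hc.total i.2 j.2 with ⟨h', hh⟩ | ⟨h', hh⟩
      · exact (hh b).symm
      · exact hh ⟨b, h b.2⟩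
    let χ : (iSup K : Subalgebra k A) →ₐ[k] k := Subalgebra.iSupLift K dir (fun i => i.1.2.1) compat (iSup K) le_rfl
    have hχ : ∀ (i : ↥c) (x : K i) (h : K i ≤ iSup K), χ (Subalgebra.inclusion h x) = i.1.2.1 x := fun i x h =>
      Subalgebra.iSupLift_inclusion (K := K) (dir := dir) (f := fun i => i.1.2.1) (hf := compat) (i := i) x h
    obtain ⟨e0⟩ := (inferInstance : Nonempty ↥c)
    refine ⟨⟨⟨iSup K, isHopf_iSup K dir fun i => i.1.1.2.1, e0.1.1.2.2.trans (le_iSup K e0)⟩,
      ⟨χ, fun b => (hχ e0 (Subalgebra.inclusion e0.1.1.2.2 b) (le_iSup K e0)).trans (e0.1.2.2 b)⟩⟩, fun e he => ?_⟩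
    exact ⟨le_iSup K ⟨e, he⟩, fun b => hχ ⟨e, he⟩ b _⟩
  obtain ⟨⟨B, hB, hB0le⟩, χ, hχ⟩ := e
  have htop : B = ⊤ := by
    refine eq_top_iff.2 fun x _ => ?_
    obtain ⟨H, hxH, hHfg, hH⟩ := exists_fg (k := k) x
    obtain ⟨ψ, hψ⟩ := exists_extension B H hB hHfg χ
    let e' : E := ⟨⟨B ⊔ H, isHopf_sup hB hH, hB0le.trans le_sup_left⟩,
      ⟨ψ, fun b => (hψ (Subalgebra.inclusion hB0le b)).trans (hχ b)⟩⟩
    obtain ⟨h, -⟩ := he (b := e') ⟨le_sup_left, fun b => hψ b⟩
    exact h (le_sup_right (a := B) hxH)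
  subst htop
  exact ⟨χ.comp Subalgebra.topEquiv.symm.toAlgHom, hχ⟩

/-- Rational points detect non-nilpotent functions on an affine group. -/
theorem exists_point_ne_zero {f : A} (hf : ¬ IsNilpotent f) : ∃ χ : A →ₐ[k] k, χ f ≠ 0 := by
  obtain ⟨B0, hfB0, hB0fg, hB0⟩ := exists_fg (k := k) f
  let f0 : B0 := ⟨f, hfB0⟩
  haveI : Algebra.FiniteType k B0 := (Subalgebra.fg_iff_finiteType B0).1 hB0fg
  haveI : Algebra.FiniteType k (Localization.Away f0) := by
    haveI : Algebra.FiniteType B0 (Localization.Away f0) :=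
      IsLocalization.finiteType_of_monoid_fg (Submonoid.powers f0) _
    exact Algebra.FiniteType.trans (S := B0) inferInstance inferInstance
  haveI : Nontrivial (Localization.Away f0) := by
    refine not_subsingleton_iff_nontrivial.1 fun h => ?_
    obtain ⟨n, hn⟩ := (IsLocalization.subsingleton_iff (M := Submonoid.powers f0) (S := Localization.Away f0)).1 h
    exact hf ⟨n, congrArg Subtype.val hn⟩
  obtain ⟨p⟩ := exists_point_of_finiteType (k := k) (Localization.Away f0)
  obtain ⟨χ, hχ⟩ := exists_point_extend B0 hB0 (p.comp (IsScalarTower.toAlgHom k B0 (Localization.Away f0)))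
  exact ⟨χ, fun h0 => ((IsLocalization.Away.algebraMap_isUnit (S := Localization.Away f0) f0).map p).ne_zero
    ((hχ f0).symm.trans h0)⟩

/-- A homomorphism of Hopf algebras with nilpotent kernel is surjective on points. -/
theorem exists_point_comp {A' : Type v} [CommRing A'] [HopfAlgebra k A'] (f : A' →ₐc[k] A)
    (hf : ∀ a, f a = 0 → IsNilpotent a) (χ' : A' →ₐ[k] k) :
    ∃ χ : A →ₐ[k] k, χ.comp (f : A' →ₐ[k] A) = χ' := by
  let g := (f : A' →ₐ[k] A).rangeRestrict
  have hker : ∀ a ∈ RingHom.ker g, χ' a = 0 := fun a ha =>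
    ((hf a (congrArg Subtype.val ha)).map χ').eq_zero
  let e := Ideal.quotientKerAlgEquivOfSurjective (f := g) (AlgHom.rangeRestrict_surjective _)
  let χ0 : (f : A' →ₐ[k] A).range →ₐ[k] k := (Ideal.Quotient.liftₐ _ χ' hker).comp e.symm.toAlgHom
  obtain ⟨χ, hχ⟩ := exists_point_extend _ (HopfFF.isHopfSub_range f) χ0
  refine ⟨χ, AlgHom.ext fun a => (hχ (g a)).trans ?_⟩
  have h1 : e.symm (g a) = Ideal.Quotient.mk _ a := e.injective (by rw [AlgEquiv.apply_symm_apply]; rfl)
  show Ideal.Quotient.liftₐ _ χ' hker (e.symm (g a)) = χ' a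
  rw [h1]
  rfl

end Groth.Agent.HopfPts
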